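import Groth.Agent.DegPullLib.H0
import Groth.Agent.AmpleThLib.Pow
import Groth.Agent.AmpleThLib.FiniteSet
import Groth.Agent.AssPointLib.Basic
import Groth.Agent.CurvLib.EulerTensor
import Groth.Agent.SerreVanLib.CurveAmple
import Groth.Agent.SerreVanLib.TwTensor
import Groth.Agent.GrTildeLib.TensLift
import Mathlib.RingTheory.Filtration
import Mathlib.AlgebraicGeometry.Artinian

/-!
# Negative twists have no sections
-/

set_option autoImplicit false
universe u

open CategoryTheory CategoryTheory.Limits AlgebraicGeometry TopologicalSpace Opposite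
open AmpleLib (res GenAt GenOn shT)
open TwistLib (genSet)
open AmpleThLib (pS)

noncomputable section

namespace NegTwistLib

variable {X : Scheme.{u}} {L M : X.Modules}

/-- Generators of `L` and `M` pairing to one. -/
structure Dual (φ : CohB1.tensorMod L M ⟶ Coh.structureModule X) where
  U : X.Opens
  e : Γ(L, U)
  m : Γ(M, U)
  he : GenOn L e
  hm : GenOn M m
  one : φ.app U (shT e m) = (1 : Γ(X, U))

theorem germ_shT (A B : X.Modules) {U : X.Opens} {x : X} (hx : x ∈ U) (a : Γ(A, U)) (b : Γ(B, U)) :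
    (CohB1.tensorMod A B).presheaf.germ U x hx (shT a b) =
      KFlatLib.stalkTensorLin A B x (A.presheaf.germ U x hx a ⊗ₜ B.presheaf.germ U x hx b) :=
  (KFlatLib.stalkTensorLin_germ A B x hx a b).symm

/-- Tensoring with a generator is bijective on stalks. -/
theorem bijective_jmap (F : X.Modules) {N : X.Modules} {U : X.Opens} {g : Γ(N, U)} (hg : GenOn N g) {x : X}
    (hx : x ∈ U) :
    Function.Bijective fun a : F.presheaf.stalk x =>
      KFlatLib.stalkTensorLin F N x (a ⊗ₜ[X.presheaf.stalk x] N.presheaf.germ U x hx g) :=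
  (KFlatLib.stalkTensorLin_bijective F N x).comp (GrTildeLib.bijective_tmul_gen _ (hg.genAt hx))

/-- The stalk map of a pairing. -/
def val (φ : CohB1.tensorMod L M ⟶ Coh.structureModule X) (y : X) :
    (CohB1.tensorMod L M).presheaf.stalk y →ₗ[X.presheaf.stalk y] (Coh.structureModule X).presheaf.stalk y :=
  ((DevissLib.St y).map φ).hom

theorem val_bijective (φ : CohB1.tensorMod L M ⟶ Coh.structureModule X) [IsIso φ] (y : X) :
    Function.Bijective (val φ y) :=
  ConcreteCategory.bijective_of_isIso ((DevissLib.St y).map φ)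

theorem exists_dual (hL : PicF.IsInvertible L) (φ : CohB1.tensorMod L M ⟶ Coh.structureModule X) [IsIso φ]
    (x : X) : ∃ a : Dual φ, x ∈ a.U := by
  obtain ⟨U, e, hxU, he⟩ := TwistLib.exists_genOn hL x
  have hb : ∀ (y : X) (hy : y ∈ U), Function.Bijective fun a : M.presheaf.stalk y =>
      val φ y (KFlatLib.stalkTensorLin L M y (L.presheaf.germ U y hy e ⊗ₜ[X.presheaf.stalk y] a)) :=
    fun y hy => by
      refine (val_bijective φ y).comp
        ((KFlatLib.stalkTensorLin_bijective L M y).comp ?_)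
      exact (TensorProduct.comm (X.presheaf.stalk y) (M.presheaf.stalk y) (L.presheaf.stalk y)).bijective.comp
        (GrTildeLib.bijective_tmul_gen _ (he.genAt hy))
  obtain ⟨b, hb'⟩ := (hb x hxU).2 ((Coh.structureModule X).presheaf.germ U x hxU (1 : Γ(X, U)))
  obtain ⟨W, hxW, m₀, rfl⟩ := TopCat.Presheaf.exists_germ_eq (F := M.presheaf) b
  have hgerm : ∀ (V : X.Opens) (a : Γ(L, V)) (b : Γ(M, V)) (y : X) (hy : y ∈ V),
      (Coh.structureModule X).presheaf.germ V y hy (φ.app V (shT a b)) = val φ y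
        (KFlatLib.stalkTensorLin L M y (L.presheaf.germ V y hy a ⊗ₜ M.presheaf.germ V y hy b)) := fun V a b y hy => by
    rw [← germ_shT]
    exact (DerSch.stalkFunctor_map_germ y φ V hy (shT a b)).symm
  let V := U ⊓ W
  have h1 : (Coh.structureModule X).presheaf.germ V x ⟨hxU, hxW⟩
      (φ.app V (shT (res L inf_le_left e) (res M inf_le_right m₀))) =
        (Coh.structureModule X).presheaf.germ V x ⟨hxU, hxW⟩ (1 : Γ(X, V)) := by
    rw [hgerm, AmpleLib.germ_res, AmpleLib.germ_res]
    refine hb'.trans ?_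
    refine (AmpleLib.germ_res (Coh.structureModule X) (inf_le_left : V ≤ U) (1 : Γ(X, U)) (x := x) ⟨hxU, hxW⟩).symm.trans ?_
    exact congrArg _ (map_one (X.presheaf.map (homOfLE (inf_le_left : V ≤ U)).op).hom)
  obtain ⟨O, hxO, i₁, i₂, h2⟩ := TopCat.Presheaf.germ_eq (Coh.structureModule X).presheaf x _ _ _ _ h1
  have hOU : O ≤ U := i₁.le.trans inf_le_left
  have hOW : O ≤ W := i₁.le.trans inf_le_right
  have hone : φ.app O (shT (res L hOU e) (res M hOW m₀)) = (1 : Γ(X, O)) := by
    have h3 : φ.app O (shT (res L hOU e) (res M hOW m₀)) =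
        (Coh.structureModule X).presheaf.map i₁.op (φ.app V (shT (res L inf_le_left e) (res M inf_le_right m₀))) := by
      refine Eq.trans ?_ (QCohLib.app_map φ i₁ _)
      refine congrArg (φ.app O) ?_
      refine Eq.trans ?_ (AmpleLib.shT_res i₁.le (res L inf_le_left e) (res M inf_le_right m₀)).symm
      rw [AmpleLib.res_res, AmpleLib.res_res]
    exact (h3.trans h2).trans (map_one (X.presheaf.map i₂.op).hom)
  refine ⟨⟨O, res L hOU e, res M hOW m₀, he.res hOU, TwistLib.genOn_of_genAt fun y hy => ?_, hone⟩, hxO⟩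
  refine (Function.Bijective.of_comp_iff' (hb y (hOU hy)) _).mp ?_
  have hone' := congrArg ((Coh.structureModule X).presheaf.germ O y hy) hone
  rw [hgerm, AmpleLib.germ_res] at hone'
  have hf : ((fun a : M.presheaf.stalk y => val φ y
        (KFlatLib.stalkTensorLin L M y (L.presheaf.germ U y (hOU hy) e ⊗ₜ[X.presheaf.stalk y] a))) ∘
      fun r : X.presheaf.stalk y => r • M.presheaf.germ O y hy (res M hOW m₀)) =
      fun r => r • (Coh.structureModule X).presheaf.germ O y hy (1 : Γ(X, O)) := funext fun r => by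
    simp only [Function.comp_apply, TensorProduct.tmul_smul, map_smul]
    exact ((val φ y).map_smul r _).trans (congrArg (r • ·) hone')
  rw [hf]
  exact (AmpleLib.one_genOn O).genAt hy

/-- Transition units of dual generators. -/
theorem dual_transition {φ : CohB1.tensorMod L M ⟶ Coh.structureModule X} (a b : Dual φ) {V : X.Opens}
    (ha : V ≤ a.U) (hb : V ≤ b.U) :
    ∃ u v : Γ(X, V), u * v = 1 ∧ res L hb b.e = u • res L ha a.e ∧ res M hb b.m = v • res M ha a.m := by
  obtain ⟨u, hu⟩ := (a.he V ha).2 (res L hb b.e)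
  obtain ⟨v, hv⟩ := (a.hm V ha).2 (res M hb b.m)
  refine ⟨u, v, ?_, hu.symm, hv.symm⟩
  have one' : ∀ (c : Dual φ) (h : V ≤ c.U), φ.app V (shT (res L h c.e) (res M h c.m)) = (1 : Γ(X, V)) := by
    intro c h
    rw [← AmpleLib.shT_res h c.e c.m]
    refine (QCohLib.app_map φ (homOfLE h) _).trans ?_
    rw [c.one]
    exact map_one (X.presheaf.map (homOfLE h).op).hom
  have h1 := one' b hb
  dsimp only at hu hv
  rw [← hu, ← hv, AmpleLib.shT_smul, QCohLib.app_smul, one' a ha] at h1
  exact (smul_eq_mul (u * v) (1 : Γ(X, V))).symm.trans h1 |> (mul_one (u * v)).symm.trans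

variable {d : ℕ}

/-- Multiplication by a section of `L^d` on powers of the inverse. -/
theorem exists_step (hL : PicF.IsInvertible L) (φ : CohB1.tensorMod L M ⟶ Coh.structureModule X) [IsIso φ]
    (σ : Γ(CohB1.tensorPow L d, ⊤)) (n : ℕ) :
    ∃ θ : CohB1.tensorPow M (n + d) ⟶ CohB1.tensorPow M n, ∀ (a : Dual φ) (c : Γ(X, a.U)),
      c • pS a.e d = res _ le_top σ → θ.app a.U (pS a.m (n + d)) = c • pS a.m n := by
  choose c hc using fun a : Dual φ => AmpleThLib.exists_coeff σ (AmpleThLib.pS_genOn a.he d)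
  obtain ⟨θ, hθ⟩ := TwistLib.exists_hom_of_gens (M := CohB1.tensorPow M (n + d)) (N := CohB1.tensorPow M n)
    (fun a : Dual φ => a.U) (fun a => pS a.m (n + d)) (fun a => c a • pS a.m n) (exists_dual hL φ)
    (fun a => AmpleThLib.pS_genOn a.hm _) fun a b V ha hb w hw => by
      obtain ⟨u, v, huv, hu, hv⟩ := dual_transition a b ha hb
      rw [AmpleThLib.pS_res, AmpleThLib.pS_res, hv, AmpleThLib.pS_smul] at hw
      have hw' : w = v ^ (n + d) := by
        have hg := (AmpleThLib.pS_genOn a.hm (n + d)) V ha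
        refine hg.1 ?_
        show w • res _ ha (pS a.m (n + d)) = v ^ (n + d) • res _ ha (pS a.m (n + d))
        rw [AmpleThLib.pS_res]
        exact hw
      have hcc : X.presheaf.map (homOfLE hb).op (c b) * u ^ d = X.presheaf.map (homOfLE ha).op (c a) := by
        have h1 := congrArg (res _ ha) (hc a)
        have h2 := congrArg (res _ hb) (hc b)
        rw [AmpleLib.res_smul, AmpleLib.res_res] at h1 h2
        rw [AmpleThLib.pS_res, hu, AmpleThLib.pS_smul, smul_smul] at h2
        refine ((AmpleThLib.pS_genOn a.he d) V ha).1 ?_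
        show _ • res _ ha (pS a.e d) = _ • res _ ha (pS a.e d)
        rw [h1, AmpleThLib.pS_res]
        exact h2
      rw [AmpleLib.res_smul, AmpleLib.res_smul, AmpleThLib.pS_res, AmpleThLib.pS_res, hv, AmpleThLib.pS_smul,
        smul_smul, smul_smul, hw', ← hcc]
      refine congrArg (· • _) ?_
      calc v ^ (n + d) * (X.presheaf.map (homOfLE hb).op (c b) * u ^ d)
          = X.presheaf.map (homOfLE hb).op (c b) * v ^ n * (u * v) ^ d := by ring
        _ = X.presheaf.map (homOfLE hb).op (c b) * v ^ n := by rw [huv, one_pow, mul_one]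
  refine ⟨θ, fun a c' hc' => ?_⟩
  rw [hθ a]
  refine congrArg (· • _) ?_
  refine ((AmpleThLib.pS_genOn a.he d) a.U le_rfl).1 ?_
  show c a • res _ le_rfl (pS a.e d) = c' • res _ le_rfl (pS a.e d)
  rw [AmpleLib.res_refl, hc a, hc']

/-- Global sections of `F ⊗ M^n` vanish for large `n` when `F` has no closed associated points. -/
theorem exists_subsingleton (k : Type u) [Field k] [X.Over (Spec (CommRingCat.of k))]
    [IsProper (X ↘ (Spec (CommRingCat.of k)))] (hA : CohB1.IsAmple L)
    (φ : CohB1.tensorMod L M ⟶ Coh.structureModule X) [IsIso φ] (F : X.Modules) (hF : Coh.IsCoh F)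
    (hass : ∀ x : X, IsClosed ({x} : Set X) → ¬ Curv2.IsAssPoint F x) :
    ∃ n₀ : ℕ, ∀ n : ℕ, n₀ ≤ n → Subsingleton (Coh.HH X (CohB1.tensorMod F (CohB1.tensorPow M n)) 0) := by
  classical
  let q := X ↘ (Spec (CommRingCat.of k))
  haveI : IsNoetherian X := CurvLib.isNoetherian k (X := X)
  haveI : Coh.IsQCoh F := hF.1
  have hL := hA.1
  have hM : PicF.IsInvertible M := fun x => by
    obtain ⟨a, ha⟩ := exists_dual hL φ x
    exact ⟨a.U, ha, TwistLib.nonempty_iso_of_genOn a.m a.hm⟩
  have hfin : {x : X | Curv2.IsWeakAssPoint F x}.Finite :=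
    (AssPointLib.finite_assPoints hF.2 ⊤ isCompact_univ).subset fun x hx => ⟨trivial, hx⟩
  obtain ⟨d, G, hd, ⟨σ, hσ⟩, hAG, -, hGaff⟩ :=
    AmpleThLib.exists_locus_finset hL hA hfin ⊤ (Set.subset_univ _)
  choose θ hθ using exists_step hL φ σ
  let N := fun n => CohB1.tensorPow M n
  let T := fun n => CohB1.tensorMod F (N n)
  let μ : ∀ n, T (n + d) ⟶ T n := fun n => SerreVanLib.tmap F (θ n)
  choose c hc using fun a : Dual φ => AmpleThLib.exists_coeff σ (AmpleThLib.pS_genOn a.he d)
  have hcG : ∀ (a : Dual φ) (y : X) (hy : y ∈ a.U), IsUnit (X.presheaf.germ a.U y hy (c a)) ↔ y ∈ G := by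
    intro a y hy
    rw [← Scheme.mem_basicOpen X (c a) y hy,
      ← AmpleThLib.mem_genSet_coeff (AmpleThLib.tensorPow_isInvertible hL d) σ (AmpleThLib.pS_genOn a.he d) (hc a), hσ]
    exact ⟨fun h => h.1, fun h => ⟨h, hy⟩⟩
  let J : ∀ (n : ℕ) (a : Dual φ) (x : X) (_ : x ∈ a.U), F.presheaf.stalk x → (T n).presheaf.stalk x :=
    fun n a x hx b => KFlatLib.stalkTensorLin F (N n) x (b ⊗ₜ[X.presheaf.stalk x] (N n).presheaf.germ a.U x hx (pS a.m n))
  have hJ : ∀ n a x hx, Function.Bijective (J n a x hx) := fun n a x hx =>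
    bijective_jmap F (AmpleThLib.pS_genOn a.hm n) hx
  have hJsmul : ∀ n a x hx (r : X.presheaf.stalk x) b, J n a x hx (r • b) = r • J n a x hx b := fun n a x hx r b => by
    simp only [J, ← TensorProduct.smul_tmul', map_smul]
    rfl
  have hμJ : ∀ n a x hx b, ((DevissLib.St x).map (μ n)).hom (J (n + d) a x hx b) =
      J n a x hx (X.presheaf.germ a.U x hx (c a) • b) := by
    intro n a x hx b
    obtain ⟨W, hxW, s, rfl⟩ := TopCat.Presheaf.exists_germ_eq (F := F.presheaf) b
    let V := W ⊓ a.U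
    have hxV : x ∈ V := ⟨hxW, hx⟩
    have e0 : ∀ j, J j a x hx (F.presheaf.germ W x hxW s) =
        (T j).presheaf.germ V x hxV (shT (res F inf_le_left s) (res (N j) inf_le_right (pS a.m j))) := fun j => by
      rw [germ_shT, AmpleLib.germ_res, AmpleLib.germ_res]
    rw [hJsmul, e0, e0]
    refine (DerSch.stalkFunctor_map_germ x (μ n) V hxV _).trans ?_
    refine (congrArg ((T n).presheaf.germ V x hxV) (KFlatLib.tensorBi_map₂_shTm F (θ n) _ _)).trans ?_
    have h1 : (θ n).app V (res (N (n + d)) inf_le_right (pS a.m (n + d))) =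
        X.presheaf.map (homOfLE (inf_le_right : V ≤ a.U)).op (c a) • res (N n) inf_le_right (pS a.m n) := by
      refine (QCohLib.app_map (θ n) (homOfLE inf_le_right) _).trans ?_
      rw [hθ n a (c a) (hc a)]
      exact AmpleLib.res_smul (N n) inf_le_right (c a) (pS a.m n)
    refine (germ_shT F (N n) hxV _ _).trans ?_
    rw [h1, AmpleLib.germ_smul, TensorProduct.tmul_smul, map_smul, TopCat.Presheaf.germ_res_apply]
    exact congrArg _ (germ_shT F (N n) hxV _ _).symm
  have hreg : ∀ (a : Dual φ) (x : X) (hx : x ∈ a.U) (b : F.presheaf.stalk x),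
      X.presheaf.germ a.U x hx (c a) • b = 0 → b = 0 := by
    intro a x hx b hb
    by_contra hne
    obtain ⟨W, hxW, s, rfl⟩ := TopCat.Presheaf.exists_germ_eq (F := F.presheaf) b
    let V := W ⊓ a.U
    have h0 : F.presheaf.germ V x ⟨hxW, hx⟩
        (X.presheaf.map (homOfLE (inf_le_right : V ≤ a.U)).op (c a) • res F inf_le_left s) =
        F.presheaf.germ V x ⟨hxW, hx⟩ 0 := by
      rw [map_zero, AmpleLib.germ_smul, TopCat.Presheaf.germ_res_apply, AmpleLib.germ_res]
      exact hb
    obtain ⟨O, hxO, i₁, i₂, h1⟩ := TopCat.Presheaf.germ_eq F.presheaf x _ _ _ _ h0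
    obtain ⟨U, hU, hxU, hUO⟩ := exists_isAffineOpen_mem_and_subset hxO
    have hUV : U ≤ V := fun z hz => i₁.le (hUO hz)
    obtain ⟨y, hy, -, hweak, hne'⟩ := AssPointLib.exists_weak_specializes (M := F) hU hxU
      (res F (hUV.trans inf_le_left) s) (by
        show F.presheaf.germ U x hxU _ ≠ 0
        rw [AmpleLib.germ_res]; exact hne)
    have h2 := congrArg (fun t => F.presheaf.germ O y (hUO hy) t) h1
    simp only [TopCat.Presheaf.germ_res_apply, AmpleLib.germ_smul, map_zero, AmpleLib.germ_res] at h2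
    refine hne' ?_
    show F.presheaf.germ U y hy _ = 0
    rw [AmpleLib.germ_res]
    exact ((hcG a y (hUV hy).2).mpr (hAG hweak)).smul_eq_zero.mp h2
  have hμinj : ∀ n, Function.Injective ((μ n).app ⊤) := fun n t t' h => TwistLib.mod_ext (T (n + d)) fun x hx => by
    obtain ⟨a, ha⟩ := exists_dual hL φ x
    obtain ⟨b, hb⟩ := (hJ (n + d) a x ha).2 ((T (n + d)).presheaf.germ ⊤ x hx t)
    obtain ⟨b', hb'⟩ := (hJ (n + d) a x ha).2 ((T (n + d)).presheaf.germ ⊤ x hx t')
    rw [← hb, ← hb']
    refine congrArg _ (sub_eq_zero.mp (hreg a x ha _ ((smul_sub _ b b').trans (sub_eq_zero.mpr ?_))))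
    refine (hJ n a x ha).1 ?_
    rw [← hμJ, ← hμJ, hb, hb']
    exact (DerSch.stalkFunctor_map_germ x (μ n) ⊤ hx t).trans
      ((congrArg _ h).trans (DerSch.stalkFunctor_map_germ x (μ n) ⊤ hx t').symm)
  have hhinj : ∀ n, Function.Injective (CurvLib.hMap (k := k) (μ n) 0) := fun n z z' h => by
    apply (DegPullLib.e0 (T (n + d))).injective
    apply hμinj n
    have e : ∀ w, DegPullLib.e0 (T n) (CurvLib.hMap (k := k) (μ n) 0 w) = (μ n).app ⊤ (DegPullLib.e0 (T (n + d)) w) :=
      fun w => SerreVanLib.hhZero_natural (k := k) (μ n) w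
    rw [← e, ← e, h]
  have hTc : ∀ n, Coh.IsCoh (T n) := fun n => SerreVanLib.isCoh_tensor hF (AmpleThLib.tensorPow_isInvertible hM n)
  haveI hTf : ∀ n, Module.Finite k (Coh.HH X (T n) 0) := fun n => CurvLib.finite_HH (hTc n) 0
  let h0 : ℕ → ℕ := fun n => Module.finrank k (Coh.HH X (T n) 0)
  have hstep : ∀ n, h0 (n + d) ≤ h0 n := fun n => LinearMap.finrank_le_finrank_of_injective (hhinj n)
  have hkill : ∀ r, ∃ n₁, ∀ j, n₁ ≤ j → Subsingleton (Coh.HH X (T (r + j * d)) 0) := by
    intro r
    obtain ⟨j₀, hj₀⟩ : ∃ j₀, ∀ j, h0 (r + j₀ * d) ≤ h0 (r + j * d) :=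
      ⟨Function.argmin fun j => h0 (r + j * d), fun j => Function.argmin_le (fun j => h0 (r + j * d)) j⟩
    have hsurj : ∀ j, j₀ ≤ j → ∀ t : Γ(T (r + j * d), ⊤), ∃ t' : Γ(T (r + (j + 1) * d), ⊤),
        ∀ (a : Dual φ) (x : X) (hx : x ∈ a.U) b, J (r + (j + 1) * d) a x hx b = (T _).presheaf.germ ⊤ x trivial t' →
          J (r + j * d) a x hx (X.presheaf.germ a.U x hx (c a) • b) = (T _).presheaf.germ ⊤ x trivial t := by
      intro j hj
      have hmono : ∀ i, h0 (r + (j₀ + i) * d) ≤ h0 (r + j₀ * d) := fun i => by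
        induction i with
        | zero => exact le_rfl
        | succ i ih =>
          rw [show r + (j₀ + (i + 1)) * d = r + (j₀ + i) * d + d by ring]
          exact (hstep _).trans ih
      rw [show r + (j + 1) * d = r + j * d + d by ring]
      have heq : h0 (r + j * d + d) = h0 (r + j * d) := by
        obtain ⟨i, rfl⟩ := Nat.exists_eq_add_of_le hj
        refine le_antisymm (hstep _) ((hmono i).trans ?_)
        rw [show r + (j₀ + i) * d + d = r + (j₀ + i + 1) * d by ring]
        exact hj₀ _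
      have hs := (LinearMap.injective_iff_surjective_of_finrank_eq_finrank heq).mp (hhinj (r + j * d))
      intro t
      obtain ⟨w, hw⟩ := hs ((DegPullLib.e0 (T (r + j * d))).symm t)
      refine ⟨DegPullLib.e0 _ w, fun a x hx b hb => ?_⟩
      rw [← hμJ, hb]
      refine (DerSch.stalkFunctor_map_germ x (μ (r + j * d)) ⊤ trivial _).trans (congrArg _ ?_)
      refine (SerreVanLib.hhZero_natural (k := k) (μ (r + j * d)) w).symm.trans ?_
      exact ((congrArg _ hw).trans ((DegPullLib.e0 _).apply_symm_apply t))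
    refine ⟨j₀, fun j hj => ?_⟩
    refine ⟨fun z z' => (DegPullLib.e0 (T (r + j * d))).injective ?_⟩
    suffices key : ∀ t : Γ(T (r + j * d), ⊤), t = 0 by rw [key (DegPullLib.e0 _ z), key (DegPullLib.e0 _ z')]
    intro t
    -- the germs outside the affine locus vanish
    have hout : ∀ x, x ∉ G → (T (r + j * d)).presheaf.germ ⊤ x trivial t = 0 := by
      intro x hx
      obtain ⟨a, ha⟩ := exists_dual hL φ x
      obtain ⟨b, hb⟩ := (hJ (r + j * d) a x ha).2 ((T (r + j * d)).presheaf.germ ⊤ x trivial t)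
      have hdeep : ∀ i (j : ℕ), j₀ ≤ j → ∀ (t : Γ(T (r + j * d), ⊤)) (b : F.presheaf.stalk x),
          J (r + j * d) a x ha b = (T (r + j * d)).presheaf.germ ⊤ x trivial t →
            ∃ b' : F.presheaf.stalk x, X.presheaf.germ a.U x ha (c a) ^ i • b' = b := by
        intro i
        induction i with
        | zero => exact fun j _ t b _ => ⟨b, by rw [pow_zero, one_smul]⟩
        | succ i ih =>
          intro j hj t b hb
          obtain ⟨t', ht'⟩ := hsurj j hj t
          obtain ⟨b₁, hb₁⟩ := (hJ (r + (j + 1) * d) a x ha).2 ((T _).presheaf.germ ⊤ x trivial t')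
          obtain ⟨b', hb'⟩ := ih (j + 1) (hj.trans (Nat.le_succ j)) t' b₁ hb₁
          refine ⟨b', ?_⟩
          rw [pow_succ', mul_smul, hb']
          exact (hJ (r + j * d) a x ha).1 ((ht' a x ha b₁ hb₁).trans hb.symm)
      have hm : X.presheaf.germ a.U x ha (c a) ∈ IsLocalRing.maximalIdeal (X.presheaf.stalk x) := by
        rw [IsLocalRing.mem_maximalIdeal, mem_nonunits_iff]
        exact fun hu => hx ((hcG a x ha).mp hu)
      haveI : Module.Finite (X.presheaf.stalk x) (F.presheaf.stalk x) :=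
        haveI := DevissLib.isNoetherian_stalk hF x
        inferInstanceAs (Module.Finite (X.presheaf.stalk x) ((DevissLib.St x).obj F))
      have hb0 : b = 0 := by
        have hin : b ∈ (⨅ i : ℕ, IsLocalRing.maximalIdeal (X.presheaf.stalk x) ^ i • ⊤ :
            Submodule (X.presheaf.stalk x) (F.presheaf.stalk x)) := by
          refine (Submodule.mem_iInf _).mpr fun i => ?_
          obtain ⟨b', hb'⟩ := hdeep i j hj t b hb
          rw [← hb']
          exact Submodule.smul_mem_smul (Ideal.pow_mem_pow hm i) trivial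
        rwa [Ideal.iInf_pow_smul_eq_bot_of_isLocalRing _ (IsLocalRing.maximalIdeal.isMaximal _).ne_top,
          Submodule.mem_bot] at hin
      have hb1 := hb
      rw [hb0] at hb1
      rw [← hb1]
      (simp only [J, TensorProduct.zero_tmul, map_zero]; rfl)
    refine TwistLib.mod_ext (T (r + j * d)) fun x hx => ?_
    rw [map_zero]
    by_contra hne
    obtain ⟨a, ha⟩ := exists_dual hL φ x
    obtain ⟨b, hb⟩ := (hJ (r + j * d) a x ha).2 ((T (r + j * d)).presheaf.germ ⊤ x hx t)
    obtain ⟨W, hxW, s, rfl⟩ := TopCat.Presheaf.exists_germ_eq (F := F.presheaf) b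
    let V := W ⊓ a.U
    have hb2 : (T (r + j * d)).presheaf.germ V x ⟨hxW, ha⟩
        (shT (res F inf_le_left s) (res (N (r + j * d)) inf_le_right (pS a.m (r + j * d)))) =
        (T (r + j * d)).presheaf.germ ⊤ x hx t := by
      rw [← hb, germ_shT, AmpleLib.germ_res, AmpleLib.germ_res]
    obtain ⟨O, hxO, i₁, i₂, h1⟩ := TopCat.Presheaf.germ_eq (T (r + j * d)).presheaf x _ _ _ _ hb2
    obtain ⟨U, hU, hxU, hUO⟩ := exists_isAffineOpen_mem_and_subset hxO
    have hUV : U ≤ V := fun z hz => i₁.le (hUO hz)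
    have hs : F.presheaf.germ W x hxW s ≠ 0 := fun h => hne (by
      rw [← hb, h]; (simp only [J, TensorProduct.zero_tmul, map_zero]; rfl))
    obtain ⟨y, hy, -, hweak, hne'⟩ := AssPointLib.exists_weak_specializes (M := F) hU hxU
      (res F (hUV.trans inf_le_left) s) (by
        show F.presheaf.germ U x hxU _ ≠ 0
        rw [AmpleLib.germ_res]; exact hs)
    have hty : (T (r + j * d)).presheaf.germ ⊤ y trivial t ≠ 0 := by
      have h2 := congrArg (fun t => (T (r + j * d)).presheaf.germ O y (hUO hy) t) h1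
      simp only [TopCat.Presheaf.germ_res_apply] at h2
      rw [germ_shT, AmpleLib.germ_res, AmpleLib.germ_res] at h2
      rw [← h2]
      intro h3
      refine hne' ?_
      show F.presheaf.germ U y hy _ = 0
      rw [AmpleLib.germ_res]
      refine (hJ (r + j * d) a y (hUV hy).2).1 (h3.trans ?_)
      (simp only [J, TensorProduct.zero_tmul, map_zero]; rfl)
    refine hass y ?_ ((AssPointLib.assPoint_iff_weak F y).mpr hweak)
    -- the closure of `y` lies in the affine locus, hence `y` is closed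
    have hcl : closure ({y} : Set X) ⊆ G := fun z hz => by_contra fun hzG => by
      obtain ⟨O', hzO', i₁', i₂', h3⟩ := TopCat.Presheaf.germ_eq (T (r + j * d)).presheaf z
        (U := ⊤) (V := ⊤) trivial trivial t 0 ((hout z hzG).trans (map_zero _).symm)
      have hyO' : y ∈ O' := (specializes_iff_mem_closure.mpr hz).mem_open O'.2 hzO'
      have h4 := congrArg (fun t => (T (r + j * d)).presheaf.germ O' y hyO' t) h3
      simp only [TopCat.Presheaf.germ_res_apply, map_zero] at h4
      exact hty h4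
    exact isClosed_singleton_of_subset_affine k hGaff hcl
  choose n₁ hn₁ using fun r : Fin d => hkill r
  refine ⟨(∑ r, n₁ r + 1) * d, fun n hn => ?_⟩
  have hq : ∑ r, n₁ r + 1 ≤ n / d := (Nat.le_div_iff_mul_le hd).mpr hn
  have := hn₁ ⟨n % d, Nat.mod_lt _ hd⟩ (n / d) (by
    have := Finset.single_le_sum (f := n₁) (fun _ _ => Nat.zero_le _) (Finset.mem_univ (⟨n % d, Nat.mod_lt _ hd⟩ : Fin d))
    omega)
  rwa [show (n % d) + n / d * d = n by rw [mul_comm]; exact Nat.mod_add_div n d] at this
where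
  isClosed_singleton_of_subset_affine {X : Scheme.{u}} (k : Type u) [Field k] [X.Over (Spec (CommRingCat.of k))]
      [IsProper (X ↘ (Spec (CommRingCat.of k)))] {G : X.Opens} (hG : IsAffineOpen G) {y : X}
      (h : closure ({y} : Set X) ⊆ G) : IsClosed ({y} : Set X) := by
    let Z : Closeds X := ⟨closure {y}, isClosed_closure⟩
    let J := Scheme.IdealSheafData.vanishingIdeal Z
    let q := J.subschemeι ≫ (X ↘ (Spec (CommRingCat.of k)))
    have hr : Set.range J.subschemeι = closure {y} :=
      J.range_subschemeι.trans (Scheme.IdealSheafData.coe_support_vanishingIdeal Z)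
    have hGt : J.subschemeι ⁻¹ᵁ G = ⊤ := eq_top_iff.mpr fun z _ => h (hr.le ⟨z, rfl⟩)
    have : IsAffine (J.subscheme) := by
      have h1 := hG.preimage J.subschemeι
      rw [hGt] at h1
      haveI : IsAffine (⊤ : J.subscheme.Opens).toScheme := h1
      exact IsAffine.of_isIso J.subscheme.topIso.inv
    have : IsFinite q := IsFinite.iff_isProper_and_isAffineHom.mpr ⟨inferInstance, inferInstance⟩
    have : DiscreteTopology J.subscheme := by
      have h1 := q.isDiscrete_preimage_singleton (Classical.arbitrary _)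
      have e : q ⁻¹' {Classical.arbitrary (Spec (CommRingCat.of k))} = Set.univ :=
        Set.eq_univ_of_forall fun x => Subsingleton.elim (α := Spec (CommRingCat.of k)) _ _
      rw [e] at h1
      exact (isDiscrete_univ_iff).mp h1
    obtain ⟨w, hw⟩ := hr.ge (subset_closure (Set.mem_singleton y))
    have := J.subschemeι.isClosedEmbedding.isClosedMap _ (isClosed_discrete {w})
    rwa [Set.image_singleton, hw] at this

end NegTwistLib

end
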